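import Cfsg.Agent.Lib.Coprime.ClassLower.Arith

/-!
# The arithmetic of the bound `p / (3 log₂ p)` on the class number
-/

set_option autoImplicit false
set_option maxRecDepth 100000
set_option maxHeartbeats 2000000

namespace CfsgLib.Coprime.ClassLog

open CfsgLib.Coprime.ClassLower

/-- the checkable condition; `P` bounds `p` above and `X` bounds the field size below -/
def Ok (L s t X m P : ℕ) : Bool :=
  decide (t * s ≤ 3 * L) || decide (P ≤ 3 * L * t) || decide (P * (t * s - 3 * L) ≤ 3 * L * t * s * t) ||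
  decide (P * P * (pf t * s ^ t) ^ 2 * (t * s - 3 * L) ≤ 9 * L * L * (t * s) * (X ^ t - 1)) ||
  (decide (2 ≤ t) && decide ((pf t * s ^ t) ^ 2 * (t * s - 3 * L) ≤ 9 * L * L * (t * s) * (m * m * X ^ (t - 2))))

/-- the condition for all larger `t` -/
def Tail (L s X m P : ℕ) : Bool :=
  decide (P ≤ 3 * L * 24) ||
  (decide (9 * s * s ≤ X) && decide ((9 * s * s) ^ 24 ≤ 81 * L * L * (m * m) * X ^ 22))

/-- all the checks at one `L` and `s` -/
def Row (L s X m P : ℕ) : Bool :=
  (List.range 24).all (fun t => Ok L s t X m P) && Tail L s X m P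

theorem rows_odd : ((List.range 28).all fun L => (List.range 40).all fun s =>
    decide (L < 4) || decide (s = 0) || Row L s (max (3 ^ s) (2 ^ (L + 1))) 2 (2 ^ (L + 1))) = true := by
  decide +kernel

theorem rows_two : ((List.range 28).all fun L => (List.range 40).all fun s =>
    decide (L < 4) || decide (2 ^ s ≤ 3 * 2 ^ L) || decide ((L, s) = (7, 9) ∨ (L, s) = (7, 10) ∨ (L, s) = (8, 10) ∨
      (L, s) = (8, 11) ∨ (L, s) = (9, 11)) || Row L s (2 ^ s) 3 (2 ^ (L + 1))) = true := by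
  decide +kernel

theorem rows_mersenne : ((List.range 40).all fun s =>
    decide (s < 5) || decide (8 ≤ s ∧ s ≤ 13) || Row (s - 1) s (2 ^ s) 1 (2 ^ s - 1)) = true := by
  decide +kernel

/-- the exceptional small rows have no prime -/
theorem no_divisor : ∀ x ∈ [((7 : ℕ), (9 : ℕ)), (7, 10), (8, 10), (8, 11), (9, 11)],
    ∀ p ∈ Nat.divisors (2 ^ x.2 - 1), p.Prime → 2 ^ x.1 ≤ p → p < 2 ^ (x.1 + 1) → False := by
  decide +kernel

theorem rows_thirteen : ((List.range 24).all (fun t => decide (t = 3 ∨ t = 4) || Ok 12 13 t 8192 1 8191) &&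
    Tail 12 13 8192 1 8191) = true := by
  decide +kernel

theorem Ok.sound {L s t X X₀ m P p : ℕ} (h : Ok L s t X₀ m P = true) (hX : X₀ ≤ X) (hp : p ≤ P)
    (hm : m * p + 1 ≤ X) (ht : 3 * L < t * s) (htp : 3 * L * t < p)
    (h1 : 3 * L * t * s * t < p * (t * s - 3 * L))
    (h2 : 9 * L * L * (t * s) * (X ^ t - 1) < p * p * (pf t * s ^ t) ^ 2 * (t * s - 3 * L)) : False := by
  simp only [Ok, Bool.or_eq_true, Bool.and_eq_true, decide_eq_true_eq] at h
  set d := t * s - 3 * L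
  set q := (pf t * s ^ t) ^ 2
  rcases h with (((h | h) | h) | h) | ⟨ht2, h⟩
  · omega
  · omega
  · exact absurd (h.trans_lt h1) (not_lt.2 (Nat.mul_le_mul_right d hp))
  · refine absurd h2 (not_lt.2 (le_trans ?_ (le_trans h (Nat.mul_le_mul_left _
      (Nat.sub_le_sub_right (Nat.pow_le_pow_left hX t) 1)))))
    gcongr
  · refine absurd h2 (not_lt.2 ?_)
    have hp2 : m * p * (m * p) * X₀ ^ (t - 2) ≤ X ^ t - 1 := by
      obtain ⟨j, rfl⟩ : ∃ j, t = j + 2 := ⟨t - 2, by omega⟩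
      rw [Nat.add_sub_cancel]
      refine le_trans (Nat.mul_le_mul_left _ (Nat.pow_le_pow_left hX j)) ?_
      obtain ⟨Y, rfl⟩ : ∃ Y, X = Y + 1 := ⟨X - 1, by omega⟩
      have hY : m * p * (m * p) ≤ Y * Y := Nat.mul_le_mul (by omega) (by omega)
      refine le_trans (Nat.mul_le_mul_right _ hY) (Nat.le_sub_of_add_le ?_)
      have h1 : 1 ≤ (Y + 1) ^ j := Nat.one_le_pow _ _ (by omega)
      rw [pow_add]
      nlinarith
    calc p * p * q * d = p * p * (q * d) := by ring
      _ ≤ p * p * (9 * L * L * (t * s) * (m * m * X₀ ^ (t - 2))) := Nat.mul_le_mul_left _ h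
      _ = 9 * L * L * (t * s) * (m * p * (m * p) * X₀ ^ (t - 2)) := by ring
      _ ≤ 9 * L * L * (t * s) * (X ^ t - 1) := Nat.mul_le_mul_left _ hp2

theorem nine_pow {L s X c t₀ t : ℕ} (hX : 9 * s * s ≤ X) (ht₀ : 2 ≤ t₀) (ht : t₀ ≤ t)
    (h : (9 * s * s) ^ t₀ ≤ 81 * L * L * c * X ^ (t₀ - 2)) :
    (pf t * s ^ t) ^ 2 ≤ 9 * L * L * (c * X ^ (t - 2)) := by
  have hg : ∀ k, (9 * s * s) ^ (t₀ + k) ≤ 81 * L * L * c * X ^ (t₀ - 2 + k) := by
    intro k
    induction k with
    | zero => simpa using h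
    | succ k ih =>
      calc (9 * s * s) ^ (t₀ + (k + 1)) = (9 * s * s) ^ (t₀ + k) * (9 * s * s) := by rw [← add_assoc, pow_succ]
        _ ≤ 81 * L * L * c * X ^ (t₀ - 2 + k) * X := Nat.mul_le_mul ih hX
        _ = 81 * L * L * c * X ^ (t₀ - 2 + (k + 1)) := by rw [← add_assoc, pow_succ, ← mul_assoc]
  have h2 := hg (t - t₀)
  rw [Nat.add_sub_cancel' ht, show t₀ - 2 + (t - t₀) = t - 2 by omega] at h2
  have h3 : 9 * (pf t * s ^ t) ^ 2 ≤ (9 * s * s) ^ t := by
    obtain ⟨j, rfl⟩ : ∃ j, t = j + 1 := ⟨t - 1, by omega⟩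
    rw [show (9 * s * s) ^ (j + 1) = 9 * (9 ^ j * (s ^ (j + 1)) ^ 2) by
      rw [mul_assoc, mul_pow, mul_pow]; ring]
    have := pf_sq_le (j + 1)
    rw [Nat.add_sub_cancel] at this
    rw [mul_pow]
    exact Nat.mul_le_mul_left _ (Nat.mul_le_mul_right _ this)
  have h4 := h3.trans h2
  rw [show 81 * L * L * c * X ^ (t - 2) = 9 * (9 * L * L * (c * X ^ (t - 2))) by ring] at h4
  exact Nat.le_of_mul_le_mul_left h4 (by norm_num)

theorem grow_six (n : ℕ) : (n + 1) ^ 6 ≤ 46656 * 2 ^ n := by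
  induction n with
  | zero => norm_num
  | succ n ih =>
    rcases Nat.lt_or_ge n 9 with h | h
    · interval_cases n <;> norm_num
    · have h1 : (n + 1 + 1) ^ 6 * 10 ^ 6 ≤ (n + 1) ^ 6 * 11 ^ 6 := by
        rw [← mul_pow, ← mul_pow]
        exact Nat.pow_le_pow_left (by omega) 6
      rw [pow_succ 2 n]
      norm_num at h1
      nlinarith [Nat.two_pow_pos n]

theorem grow_twelve {s : ℕ} (hs : 40 ≤ s) : 8 * s ^ 12 ≤ 2 ^ (2 * s) := by
  induction s, hs using Nat.le_induction with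
  | base => norm_num
  | succ s hs ih =>
    have h1 : (s + 1) ^ 12 * 40 ^ 12 ≤ s ^ 12 * 41 ^ 12 := by
      rw [← mul_pow, ← mul_pow]
      exact Nat.pow_le_pow_left (by omega) 12
    rw [show 2 * (s + 1) = 2 * s + 2 by ring, pow_add]
    norm_num at h1
    nlinarith [Nat.two_pow_pos s, Nat.two_pow_pos (2 * s)]

theorem grow_base {s : ℕ} (hs : 40 ≤ s) : 729 * s ^ 6 ≤ 1296 * 2 ^ s := by
  induction s, hs using Nat.le_induction with
  | base => norm_num
  | succ s hs ih =>
    have h1 : (s + 1) ^ 6 * 40 ^ 6 ≤ s ^ 6 * 41 ^ 6 := by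
      rw [← mul_pow, ← mul_pow]
      exact Nat.pow_le_pow_left (by omega) 6
    rw [pow_succ 2 s]
    norm_num at h1
    nlinarith [Nat.two_pow_pos s, Nat.two_pow_pos (2 * s)]

/-- **the arithmetic**, apart from the Mersenne prime `8191` -/
theorem arith {p L s t X : ℕ} (hp : p.Prime) (hL : 2 ^ L ≤ p) (hL' : p < 2 ^ (L + 1)) (hL4 : 4 ≤ L)
    (hXs : 2 ^ s ≤ X) (hs : 1 ≤ s) (hdvd : p ∣ X - 1) (hX2 : X = 2 ^ s ∨ (Odd X ∧ 3 ^ s ≤ X)) (hX1 : 2 ≤ X)
    (hne : ¬ (p = 8191 ∧ (t = 3 ∨ t = 4) ∧ s = 13 ∧ X = 8192)) (ht : 3 * L < t * s) (htp : 3 * L * t < p)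
    (h1 : 3 * L * t * s * t < p * (t * s - 3 * L))
    (h2 : 9 * L * L * (t * s) * (X ^ t - 1) < p * p * (pf t * s ^ t) ^ 2 * (t * s - 3 * L)) : False := by
  have hpX : p + 1 ≤ X := by
    have := Nat.le_of_dvd (by omega) hdvd
    omega
  have hd : t * s - 3 * L ≤ t * s := Nat.sub_le _ _
  have h2' : 9 * L * L * (X ^ t - 1) < p * p * (pf t * s ^ t) ^ 2 := by
    by_contra hc
    refine absurd h2 (not_lt.2 ?_)
    calc p * p * (pf t * s ^ t) ^ 2 * (t * s - 3 * L) ≤ 9 * L * L * (X ^ t - 1) * (t * s) :=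
          Nat.mul_le_mul (not_lt.1 hc) hd
      _ = 9 * L * L * (t * s) * (X ^ t - 1) := by ring
  have ht1 : 1 ≤ t := Nat.pos_of_ne_zero (by rintro rfl; simp at ht)
  have key : ∀ m, m * p + 1 ≤ X → ∀ X₀ ≤ X, 2 ≤ t →
      (pf t * s ^ t) ^ 2 ≤ 9 * L * L * (m * m * X₀ ^ (t - 2)) → False := by
    intro m hm X₀ hX₀ ht2 hq
    have hok : Ok L s t X₀ m p = true := by
      simp only [Ok, Bool.or_eq_true, Bool.and_eq_true, decide_eq_true_eq]
      refine Or.inr ⟨ht2, ?_⟩
      calc (pf t * s ^ t) ^ 2 * (t * s - 3 * L) ≤ 9 * L * L * (m * m * X₀ ^ (t - 2)) * (t * s) :=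
            Nat.mul_le_mul hq hd
        _ = _ := by ring
    exact Ok.sound hok hX₀ le_rfl hm ht htp h1 h2
  have big : ∀ m, m * p + 1 ≤ X → ∀ X₀ ≤ X, ∀ P, p ≤ P → Row L s X₀ m P = true → False := by
    intro m hm X₀ hX₀ P hP hrow
    simp only [Row, Bool.and_eq_true, List.all_eq_true, List.mem_range] at hrow
    rcases Nat.lt_or_ge t 24 with h24 | h24
    · exact Ok.sound (hrow.1 t h24) hX₀ hP hm ht htp h1 h2
    · have h := hrow.2
      simp only [Tail, Bool.or_eq_true, Bool.and_eq_true, decide_eq_true_eq] at h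
      rcases h with h | ⟨h9, h22⟩
      · have : 3 * L * 24 ≤ 3 * L * t := Nat.mul_le_mul_left _ h24
        omega
      · exact key m hm X₀ hX₀ (by omega) (nine_pow h9 (by norm_num) h24 h22)
  by_cases hbig : 28 ≤ L ∨ 40 ≤ s
  · -- large parameters
    rcases Nat.lt_or_ge t 2 with h21 | h22
    · -- one block
      obtain rfl : t = 1 := by omega
      rw [pow_one, show pf 1 = 1 from rfl, one_mul, pow_one] at h2'
      have h9 : 144 * (2 ^ s - 1) ≤ 9 * L * L * (X - 1) :=
        Nat.mul_le_mul (by nlinarith) (by omega)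
      have hpp : p * p ≤ 2 ^ (L + 1) * 2 ^ (L + 1) := Nat.mul_le_mul hL'.le hL'.le
      obtain ⟨u, rfl⟩ : ∃ u, s = 3 * L + 1 + u := ⟨s - (3 * L + 1), by omega⟩
      have hg := grow_six (3 * L + u)
      have hkey : (2 ^ (L + 1) * 2 ^ (L + 1) * (3 * L + 1 + u) ^ 2) ^ 3 ≤ (72 * 2 ^ (3 * L + 1 + u)) ^ 3 := by
        calc (2 ^ (L + 1) * 2 ^ (L + 1) * (3 * L + 1 + u) ^ 2) ^ 3
            = 64 * 2 ^ (6 * L) * (3 * L + u + 1) ^ 6 := by ring
          _ ≤ 64 * 2 ^ (6 * L) * (46656 * 2 ^ (3 * L + u)) := Nat.mul_le_mul_left _ hg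
          _ ≤ 64 * 2 ^ (6 * L) * (46656 * 2 ^ (3 * L + u)) * 2 ^ (2 * u) :=
              Nat.le_mul_of_pos_right _ (Nat.two_pow_pos _)
          _ = (144 * 2 ^ (3 * L + u)) ^ 3 := by ring
          _ = (72 * 2 ^ (3 * L + 1 + u)) ^ 3 := by ring
      have := (Nat.pow_le_pow_iff_left (show (3 : ℕ) ≠ 0 by norm_num)).1 hkey
      have h4 : p * p * (3 * L + 1 + u) ^ 2 ≤ 2 ^ (L + 1) * 2 ^ (L + 1) * (3 * L + 1 + u) ^ 2 :=
        Nat.mul_le_mul_right _ hpp
      have : 4 ≤ 2 ^ (3 * L + 1 + u) := le_trans (by norm_num) (Nat.pow_le_pow_right two_pos (show 2 ≤ 3 * L + 1 + u by omega))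
      omega
    rcases Nat.lt_or_ge t 3 with h23 | h23
    · -- two blocks
      obtain rfl : t = 2 := by omega
      rw [show pf 2 = 2 from rfl] at h2'
      have hs40 : 40 ≤ s := by omega
      have hpp : p * p ≤ 2 ^ (L + 1) * 2 ^ (L + 1) := Nat.mul_le_mul hL'.le hL'.le
      have h9 : 144 * (2 ^ s ^ 1 * 2 ^ s - 1) ≤ 9 * L * L * (X ^ 2 - 1) := by
        rw [pow_one, pow_two X]
        exact Nat.mul_le_mul (by nlinarith) (Nat.sub_le_sub_right (Nat.mul_le_mul hXs hXs) 1)
      have hkey : (2 ^ (L + 1) * 2 ^ (L + 1) * (2 * s ^ 2) ^ 2) ^ 3 ≤ (64 * (2 ^ s * 2 ^ s)) ^ 3 := by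
        calc (2 ^ (L + 1) * 2 ^ (L + 1) * (2 * s ^ 2) ^ 2) ^ 3 = 512 * 2 ^ (6 * L) * (8 * s ^ 12) := by ring
          _ ≤ 512 * 2 ^ (4 * s) * 2 ^ (2 * s) := Nat.mul_le_mul
              (Nat.mul_le_mul_left _ (Nat.pow_le_pow_right two_pos (by omega))) (grow_twelve hs40)
          _ ≤ 512 * 2 ^ (4 * s) * 2 ^ (2 * s) * 512 := Nat.le_mul_of_pos_right _ (by norm_num)
          _ = (64 * (2 ^ s * 2 ^ s)) ^ 3 := by ring
      have := (Nat.pow_le_pow_iff_left (show (3 : ℕ) ≠ 0 by norm_num)).1 hkey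
      have h4 : p * p * (2 * s ^ 2) ^ 2 ≤ 2 ^ (L + 1) * 2 ^ (L + 1) * (2 * s ^ 2) ^ 2 :=
        Nat.mul_le_mul_right _ hpp
      have h5 : 4 ≤ 2 ^ s * 2 ^ s := by
        have : 2 ^ 2 ≤ 2 ^ s := Nat.pow_le_pow_right two_pos (by omega)
        nlinarith
      rw [pow_one] at h9
      omega
    · -- at least three
      have hbase : (9 * s * s) ^ 3 ≤ 81 * L * L * (1 * 1) * X ^ (3 - 2) ∧ 9 * s * s ≤ X := by
        rw [show (9 * s * s) ^ 3 = 729 * s ^ 6 by ring, show 3 - 2 = 1 from rfl, pow_one, mul_one, mul_one]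
        rcases Nat.lt_or_ge s 40 with h40 | h40
        · have hL28 : 28 ≤ L := by omega
          have hX28 : 2 ^ 28 ≤ X := by
            have := Nat.pow_le_pow_right two_pos hL28
            omega
          have h6 : s ^ 6 ≤ 39 ^ 6 := Nat.pow_le_pow_left (by omega) 6
          have h7 : s * s ≤ 39 * 39 := Nat.mul_le_mul (by omega) (by omega)
          have h8 : 81 * 28 * 28 * 2 ^ 28 ≤ 81 * L * L * X := by gcongr
          norm_num at h6 h7 h8 hX28
          constructor
          · omega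
          · nlinarith
        · have h6 := grow_base h40
          have h8 : 1296 * 2 ^ s ≤ 81 * L * L * X := Nat.mul_le_mul (by nlinarith) hXs
          refine ⟨h6.trans h8, le_trans ?_ hXs⟩
          have : 40 ^ 4 * (s * s) ≤ s ^ 6 := by
            rw [show s ^ 6 = s ^ 4 * (s * s) by ring]
            exact Nat.mul_le_mul_right _ (Nat.pow_le_pow_left h40 4)
          nlinarith
      exact key 1 (by omega) X le_rfl h22 (nine_pow hbase.2 (by norm_num) h23 hbase.1)
  push Not at hbig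
  obtain ⟨hL28, hs40⟩ := hbig
  have hp2 : p ≠ 2 := by
    have : 2 ^ 4 ≤ 2 ^ L := Nat.pow_le_pow_right two_pos hL4
    omega
  have hpodd : p % 2 = 1 := hp.eq_two_or_odd.resolve_left hp2
  obtain ⟨c, hc⟩ := hdvd
  rcases hX2 with hX | ⟨hodd, h3⟩
  · subst hX
    have hcodd : c % 2 = 1 := by
      have h : (2 ^ s - 1) % 2 = 1 := by
        obtain ⟨j, rfl⟩ : ∃ j, s = j + 1 := ⟨s - 1, by omega⟩
        rw [pow_succ]; omega
      rw [hc, Nat.mul_mod, hpodd, one_mul, Nat.mod_mod] at h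
      exact h
    rcases Nat.lt_or_ge c 3 with hc1 | hc3
    · obtain rfl : c = 1 := by omega
      rw [mul_one] at hc
      have hLs : L = s - 1 := by
        have h3 : s ≠ 0 := by omega
        have ha : 2 ^ L < 2 ^ s := by omega
        have hb : 2 ^ s ≤ 2 ^ (L + 1) := by omega
        have := (Nat.pow_lt_pow_iff_right (show 1 < 2 by norm_num)).1 ha
        have := (Nat.pow_le_pow_iff_right (show 1 < 2 by norm_num)).1 hb
        omega
      by_cases h813 : 8 ≤ s ∧ s ≤ 13
      · obtain ⟨h8, h13⟩ := h813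
        rcases Nat.lt_or_ge s 13 with h | h
        · rw [← hc] at hp
          interval_cases s <;> norm_num at hp
        · obtain rfl : s = 13 := by omega
          have hp' : p = 8191 := by norm_num at hc; omega
          subst hp'
          obtain rfl : L = 12 := by omega
          have h13 := rows_thirteen
          simp only [Bool.and_eq_true, List.all_eq_true, List.mem_range, Bool.or_eq_true, decide_eq_true_eq] at h13
          rcases Nat.lt_or_ge t 24 with h24 | h24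
          · rcases h13.1 t h24 with h34 | h
            · exact hne ⟨rfl, h34, rfl, by norm_num⟩
            · exact Ok.sound h (by norm_num) le_rfl (by norm_num) ht htp h1 h2
          · have h := h13.2
            simp only [Tail, Bool.or_eq_true, Bool.and_eq_true, decide_eq_true_eq] at h
            rcases h with h | ⟨h9, h22⟩
            · have : 3 * 12 * 24 ≤ 3 * 12 * t := Nat.mul_le_mul_left _ h24
              omega
            · exact key 1 (by norm_num) 8192 (by norm_num) (by omega) (nine_pow h9 (by norm_num) h24 h22)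
      · have hrow := (List.all_eq_true.1 rows_mersenne) s (List.mem_range.2 hs40)
        simp only [Bool.or_eq_true, decide_eq_true_eq] at hrow
        rcases hrow with (h | h) | h
        · omega
        · exact h813 h
        · exact big 1 (by omega) (2 ^ s) le_rfl (2 ^ s - 1) (by omega) (hLs ▸ h)
    · have h3p : 3 * p + 1 ≤ 2 ^ s := by
        have : p * 3 ≤ p * c := Nat.mul_le_mul_left _ hc3
        omega
      have hrow := (List.all_eq_true.1 ((List.all_eq_true.1 rows_two) L (List.mem_range.2 hL28))) s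
        (List.mem_range.2 hs40)
      simp only [Bool.or_eq_true, decide_eq_true_eq] at hrow
      rcases hrow with ((h | h) | h) | h
      · omega
      · omega
      · have hdiv : p ∣ 2 ^ s - 1 := ⟨c, hc⟩
        refine no_divisor (L, s) ?_ p (Nat.mem_divisors.2 ⟨hdiv, by
          show 2 ^ s - 1 ≠ 0
          omega⟩) hp hL hL'
        simpa using h
      · exact big 3 h3p (2 ^ s) le_rfl _ hL'.le h
  · have hXe : 2 * p + 1 ≤ X := by
      obtain ⟨j, hj⟩ := hodd
      have hc2 : 2 ≤ c := by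
        rcases c with _ | _ | c
        · omega
        · omega
        · omega
      have : p * 2 ≤ p * c := Nat.mul_le_mul_left _ hc2
      omega
    have hX0 : max (3 ^ s) (2 ^ (L + 1)) ≤ X := by
      refine max_le h3 ?_
      rw [pow_succ]
      omega
    have hrow := (List.all_eq_true.1 ((List.all_eq_true.1 rows_odd) L (List.mem_range.2 hL28))) s
      (List.mem_range.2 hs40)
    simp only [Bool.or_eq_true, decide_eq_true_eq] at hrow
    rcases hrow with (h | h) | h
    · omega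
    · omega
    · exact big 2 hXe _ hX0 _ hL'.le h

theorem W_pos {e : ℕ} (he : 1 ≤ e) : 1 ≤ W e := by
  refine Nat.mul_pos (pow_pos (by omega) 2) (Finset.prod_pos fun q hq => ?_)
  unfold SB
  split_ifs <;> first | exact pow_pos (Nat.prime_of_mem_primeFactors hq).pos _ | norm_num

/-- the field size absorbs the index bound -/
theorem mul_W_le {X e : ℕ} (he : 1 ≤ e) (hX : 18 ≤ X) (h2 : e = 2 → 24 ≤ X) : X * W e ≤ X ^ e := by
  rcases Nat.lt_or_ge e 5 with h | h
  · interval_cases e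
    · rw [W_one]; simp
    · rw [W_two, pow_two]; exact Nat.mul_le_mul_left _ (h2 rfl)
    · rw [W_three, show X ^ 3 = X * (X * X) by ring]
      exact Nat.mul_le_mul_left _ (le_trans (by norm_num) (Nat.mul_le_mul hX hX))
    · rw [W_four, show X ^ 4 = X * (X * X * X) by ring]
      exact Nat.mul_le_mul_left _ (le_trans (by norm_num) (Nat.mul_le_mul (Nat.mul_le_mul hX hX) hX))
  · have h1 := W_le h
    have hpow : ∀ k, 5 * 11 ^ (5 + k) ≤ 121 * 18 ^ (4 + k) := by
      intro k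
      induction k with
      | zero => norm_num
      | succ k ih => rw [← add_assoc, pow_succ, ← add_assoc, pow_succ 18]; omega
    have h3 := hpow (e - 5)
    rw [show 5 + (e - 5) = e by omega] at h3
    have h4 : 18 ^ (4 + (e - 5)) ≤ X ^ (4 + (e - 5)) := Nat.pow_le_pow_left hX _
    obtain ⟨j, rfl⟩ : ∃ j, e = j + 1 := ⟨e - 1, by omega⟩
    rw [show 4 + (j + 1 - 5) = j by omega] at h3 h4
    rw [pow_succ X, mul_comm (X ^ j)]
    exact Nat.mul_le_mul_left _ (by omega)

/-- wide symplectic type -/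
theorem wide {X e s : ℕ} (he : 17 ≤ e) (hX : 18 ≤ X) (hXs : 2 ^ s ≤ X) :
    W e * (9 * s * s * (X * X)) ≤ X ^ e := by
  have h9 : ∀ s : ℕ, 9 * s * s ≤ 12 * 2 ^ s := by
    intro s
    induction s with
    | zero => norm_num
    | succ s ih =>
      rcases Nat.lt_or_ge s 3 with h | h
      · interval_cases s <;> norm_num
      · rw [pow_succ]; nlinarith
  have h1 := W_le (show 5 ≤ e by omega)
  have hpow : ∀ k, 60 * 11 ^ (17 + k) ≤ 121 * 18 ^ (14 + k) := by
    intro k
    induction k with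
    | zero => norm_num
    | succ k ih => rw [← add_assoc, pow_succ, ← add_assoc, pow_succ 18]; omega
  obtain ⟨k, rfl⟩ : ∃ k, e = 17 + k := ⟨e - 17, by omega⟩
  have h3 := hpow k
  have h4 : 18 ^ (14 + k) ≤ X ^ (14 + k) := Nat.pow_le_pow_left hX _
  have h5 : 12 * W (17 + k) ≤ X ^ (14 + k) := by omega
  calc W (17 + k) * (9 * s * s * (X * X)) ≤ W (17 + k) * (12 * X * (X * X)) :=
        Nat.mul_le_mul_left _ (Nat.mul_le_mul_right _ ((h9 s).trans (Nat.mul_le_mul_left _ hXs)))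
    _ = 12 * W (17 + k) * (X * X * X) := by ring
    _ ≤ X ^ (14 + k) * (X * X * X) := Nat.mul_le_mul_right _ h5
    _ = X ^ (17 + k) := by ring

/-- a field of degree at least `p` -/
theorem deep {s : ℕ} (hs : 16 ≤ s) : s ^ 4 ≤ 2 ^ s ∧ 9 * s * s ≤ 2 ^ s := by
  induction s, hs using Nat.le_induction with
  | base => norm_num
  | succ s hs ih =>
    have h1 : (s + 1) ^ 4 * 16 ^ 4 ≤ s ^ 4 * 17 ^ 4 := by
      rw [← mul_pow, ← mul_pow]
      exact Nat.pow_le_pow_left (by omega) 4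
    norm_num at h1
    rw [pow_succ 2 s]
    exact ⟨by nlinarith [ih.1, Nat.two_pow_pos s], by nlinarith [ih.2]⟩

end CfsgLib.Coprime.ClassLog
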