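import Cfsg.Agent.Lib.Coprime.ClassLower.Main
import Cfsg.Agent.Lib.Coprime.ClassLog.Arith

/-!
# A prime dividing the index of the Fitting subgroup bounds the class number of a solvable group

If `p` divides `|G : F(G)|`, `G` solvable, then `p ≤ 3 L k(G)`, `L` the integral part of `log₂ p`, except for
`p = 8191`, where `214 ≤ k(G)`.  In the irreducible linear group `H` an element of order `p` of `O_p(H)` lies in
the abelian normal subgroup `A` of a finest block system, so `k(H) ≥ (p - 1) / (t s) + 1` and `k(H) ≥ |A| / q`,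
while there are at least `(|V| - 1) / |H|` orbits.
-/

set_option autoImplicit false
set_option linter.unusedSectionVars false
set_option linter.style.haveILetI false
set_option maxHeartbeats 2000000

namespace CfsgLib.Coprime.ClassLog

open Module CfsgLib.Char CfsgLib.Char.Berger CfsgLib.Coprime.ClassMod CfsgLib.Coprime.ClassLower
open scoped commutatorElement

universe u v

/-- a normal `p`-subgroup of a group of symplectic type lies in the field part -/
theorem le_field_of_pGroup {X : Type*} [Group X] [Finite X] {r n : ℕ} {A F : Subgroup X} {s e : ℕ}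
    (hd : PrimData r n A F s e) {p : ℕ} [Fact p.Prime] (hps : s < p) (hpe : ¬ p ∣ e) {Q : Subgroup X} [Q.Normal]
    (hQ : IsPGroup p Q) : Q ≤ A := by
  have hp : p.Prime := Fact.out
  haveI := hd.normal_A
  haveI := hd.normal_F
  set C := Subgroup.centralizer (A : Set X) with hC
  haveI : C.Normal := Subgroup.normal_centralizer
  have hpow : ∀ y ∈ Q, ∃ k, y ^ p ^ k = 1 := fun y hy => by
    obtain ⟨k, hk⟩ := hQ ⟨y, hy⟩
    exact ⟨k, by simpa using congrArg Subtype.val hk⟩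
  have hQC : Q ≤ C := by
    intro y hy
    obtain ⟨k, hk⟩ := hpow y hy
    rw [← QuotientGroup.eq_one_iff, ← orderOf_eq_one_iff]
    obtain ⟨i, -, hi⟩ := (Nat.dvd_prime_pow hp).1 (orderOf_dvd_of_pow_eq_one
      (show ((y : X ⧸ C)) ^ p ^ k = 1 by rw [← QuotientGroup.mk_pow, hk, QuotientGroup.mk_one]))
    have hle : orderOf (y : X ⧸ C) ≤ s := by
      refine le_trans (Nat.le_of_dvd Nat.card_pos (orderOf_dvd_natCard _)) ?_
      exact hd.index_le
    rcases i with _ | i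
    · rw [hi, pow_zero]
    · have : p ≤ p ^ (i + 1) := Nat.le_self_pow (by omega) p
      omega
  have hQF : ∀ y ∈ Q, y ∈ F → y ∈ A := by
    intro y hy hyF
    obtain ⟨k, hk⟩ := hpow y hy
    have h1 : orderOf ((⟨y, hyF⟩ : F) : F ⧸ A.subgroupOf F) ∣ e ^ 2 := by
      refine (orderOf_dvd_natCard _).trans (dvd_of_eq ?_)
      exact hd.relIndex_F
    have h2 : orderOf ((⟨y, hyF⟩ : F) : F ⧸ A.subgroupOf F) ∣ p ^ k := by
      refine orderOf_dvd_of_pow_eq_one ?_
      rw [← QuotientGroup.mk_pow, show (⟨y, hyF⟩ : F) ^ p ^ k = 1 from Subtype.ext hk, QuotientGroup.mk_one]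
    have h3 := Nat.eq_one_of_dvd_coprimes
      ((Nat.Coprime.pow k 2 (hp.coprime_iff_not_dvd.2 hpe))) h2 h1
    rw [orderOf_eq_one_iff, QuotientGroup.eq_one_iff] at h3
    exact h3
  intro y hy
  refine hQF y hy (hd.faithful y (hQC hy) fun x hx => ?_)
  refine hQF _ ?_ ?_
  · rw [commutatorElement_def, show y * x * y⁻¹ * x⁻¹ = y * (x * y⁻¹ * x⁻¹) by group]
    exact mul_mem hy (‹Q.Normal›.conj_mem _ (inv_mem hy) x)
  · rw [commutatorElement_def]
    exact mul_mem (hd.normal_F.conj_mem x hx y) (inv_mem hx)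

/-- the classes of the powers of an element of order `p` -/
theorem classes_powers {G : Type*} [Group G] [Finite G] {p : ℕ} [Fact p.Prime] {x : G} (hx : orderOf x = p) {N : ℕ}
    (hN : ∀ (g : G) (a : ℕ), g * x * g⁻¹ = x ^ a → ∃ n, 1 ≤ n ∧ n ≤ N ∧ (a : ZMod p) ^ n = 1) :
    p - 1 + N ≤ Nat.card (ConjClasses G) * N := by
  classical
  have hp : p.Prime := Fact.out
  let e : (ZMod p)ˣ → G := fun u => x ^ (u : ZMod p).val
  have hmul : ∀ u v : (ZMod p)ˣ, e (u * v) = e u ^ (v : ZMod p).val := fun u v => by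
    show x ^ ((u * v : (ZMod p)ˣ) : ZMod p).val = (x ^ _) ^ _
    rw [← pow_mul, Units.val_mul, ZMod.val_mul]
    conv_rhs => rw [← pow_mod_orderOf, hx]
  have he1 : e 1 = x := by
    show x ^ ((1 : (ZMod p)ˣ) : ZMod p).val = x
    rw [Units.val_one, ZMod.val_one, pow_one]
  let E : Subgroup (ZMod p)ˣ :=
    { carrier := {u | ∃ g, g * x * g⁻¹ = e u}
      one_mem' := ⟨1, by rw [he1]; group⟩
      mul_mem' := fun {u v} ⟨g, hg⟩ ⟨g', hg'⟩ => ⟨g * g', by
        rw [hmul, ← hg, conj_pow, show x ^ (v : ZMod p).val = e v from rfl, ← hg']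
        group⟩
      inv_mem' := fun {u} ⟨g, hg⟩ => ⟨g⁻¹, by
        have h1 := hmul u u⁻¹
        rw [mul_inv_cancel, he1, ← hg, conj_pow] at h1
        calc g⁻¹ * x * g⁻¹⁻¹ = g⁻¹ * x * g := by rw [inv_inv]
          _ = g⁻¹ * (g * x ^ ((u⁻¹ : (ZMod p)ˣ) : ZMod p).val * g⁻¹) * g := by rw [← h1]
          _ = x ^ ((u⁻¹ : (ZMod p)ˣ) : ZMod p).val := by
            generalize ((u⁻¹ : (ZMod p)ˣ) : ZMod p).val = m
            group
          _ = e u⁻¹ := rfl⟩ }
  have hE : Nat.card E ≤ N := by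
    haveI : IsCyclic E := inferInstance
    obtain ⟨w, hw⟩ := IsCyclic.exists_ofOrder_eq_natCard (α := E)
    obtain ⟨g, hg⟩ := w.2
    obtain ⟨n, hn1, hnN, hn⟩ := hN g _ hg
    rw [ZMod.natCast_zmod_val, ← Units.val_pow_eq_pow_val, Units.val_eq_one] at hn
    have hwn : w ^ n = 1 := Subtype.ext hn
    rw [← hw]
    exact (Nat.le_of_dvd (by omega) (orderOf_dvd_of_pow_eq_one hwn)).trans hnN
  let f : (ZMod p)ˣ ⧸ E → ConjClasses G := fun c => ConjClasses.mk (e c.out)
  have hne : ∀ u, e u ≠ 1 := fun u h => by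
    have h1 : orderOf x ∣ (u : ZMod p).val := orderOf_dvd_of_pow_eq_one h
    rw [hx] at h1
    exact u.ne_zero ((ZMod.val_eq_zero _).1 (Nat.eq_zero_of_dvd_of_lt h1 (ZMod.val_lt _)))
  have hf : Function.Injective f := by
    intro c c' h
    obtain ⟨g, hg⟩ := isConj_iff.1 (ConjClasses.mk_eq_mk_iff_isConj.1 h)
    rw [← Quotient.out_eq c, ← Quotient.out_eq c']
    refine QuotientGroup.eq.2 ⟨g, ?_⟩
    have h1 := congrArg (fun z => z ^ ((c.out⁻¹ : (ZMod p)ˣ) : ZMod p).val) hg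
    simp only [conj_pow, ← hmul, mul_inv_cancel, he1] at h1
    rw [mul_comm]
    exact h1
  let f' : (ZMod p)ˣ ⧸ E ⊕ Unit → ConjClasses G := fun z => z.elim f fun _ => ConjClasses.mk 1
  have hf' : Function.Injective f' := by
    rintro (a | a) (b | b) h
    · exact congrArg Sum.inl (hf h)
    · exact absurd (isConj_one_left.1 (ConjClasses.mk_eq_mk_iff_isConj.1 h)) (hne _)
    · exact absurd (isConj_one_right.1 (ConjClasses.mk_eq_mk_iff_isConj.1 h)) (hne _)
    · rfl
  have h1 := Nat.card_le_card_of_injective f' hf'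
  rw [Nat.card_sum, Nat.card_unique (α := Unit)] at h1
  have h2 := E.card_mul_index
  rw [Nat.card_eq_fintype_card (α := (ZMod p)ˣ), ZMod.card_units] at h2
  have h3 : p - 1 ≤ N * E.index := h2 ▸ Nat.mul_le_mul_right _ hE
  calc p - 1 + N ≤ N * E.index + N := by omega
    _ = (E.index + 1) * N := by ring
    _ ≤ Nat.card (ConjClasses G) * N := Nat.mul_le_mul_right _ h1

/-- what the structure gives -/
structure Facts (p r n k o t s e a : ℕ) : Prop where
  one_t : 1 ≤ t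
  t_le : t ≤ o
  one_s : 1 ≤ s
  one_e : 1 ≤ e
  dim : t * (s * e) ≤ n
  class_A : a ≤ k * (pf t * s ^ t)
  orbit : r ^ n - 1 ≤ o * (a * (pf t * s ^ t * W e ^ t))
  prime_dvd : ∀ q : ℕ, q.Prime → q ∣ e → q ∣ r ^ s - 1
  main : p ≤ t ∨ p ≤ s ∨ p ∣ e ∨
    (p ∣ r ^ s - 1 ∧ p - 1 + t * s ≤ k * (t * s) ∧ (r ^ s - 1 = p → ∃ j, a = p ^ j))

variable {r : ℕ} [Fact r.Prime] {V : Type v} [AddCommGroup V] [Module (ZMod r) V] [Finite V]

theorem exists_facts [Nontrivial V] (G : Subgroup (V ≃ₗ[ZMod r] V)) (hs : Group.IsSolvable G) (hi : Irr G)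
    {p : ℕ} [Fact p.Prime] (hP : Cfsg.pCore p G ≠ ⊥) (o : ℕ)
    (ho : ∀ T : Finset V, (∀ a ∈ T, a ≠ 0) → (∀ a ∈ T, ∀ b ∈ T, ∀ g ∈ G, g a = b → a = b) → T.card ≤ o)
    (hcount : r ^ finrank (ZMod r) V - 1 ≤ o * Nat.card G) :
    ∃ t s e a : ℕ, Facts p r (finrank (ZMod r) V) (Nat.card (ConjClasses G)) o t s e a := by
  classical
  have hp : p.Prime := Fact.out
  haveI := hs
  obtain ⟨S, hS, hmax, W₀, hW₀, -, hfield⟩ := exists_finest hi
  obtain ⟨htr, -, hcard⟩ := hS.props hi hW₀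
  have hto := card_sys_le_orbits hS ho
  have ht1 : 1 ≤ S.card := Finset.card_pos.2 ⟨W₀, hW₀⟩
  set φ := resHom (inv_stab G W₀) with hφ
  haveI : Nontrivial W₀ := Submodule.nontrivial_iff_ne_bot.2 (hS.ne_bot _ hW₀)
  set X₁ := φ.range with hX₁
  have hsG : stab G W₀ ≤ G := fun g hg => hg.1
  haveI : Group.IsSolvable (stab G W₀) :=
    Group.isSolvable_of_isSolvable_injective (f := Subgroup.inclusion hsG) (Subgroup.inclusion_injective hsG)
  have hX₁s : Group.IsSolvable X₁ := Group.isSolvable_of_surjective φ.rangeRestrict_surjective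
  obtain ⟨A₁, F₁, s, e, hd⟩ := prim_structure X₁ hX₁s hfield
  haveI := hd.normal_A
  let M₀ : Subgroup G := (stab G W₀).subgroupOf G
  let η : M₀ →* X₁ := φ.rangeRestrict.comp
    { toFun := fun m => ⟨((m : G) : V ≃ₗ[ZMod r] V), m.2⟩
      map_one' := rfl
      map_mul' := fun _ _ => rfl }
  set K := (permHom hS).ker with hK
  have hKmem : ∀ k ∈ K, ∀ W ∈ S, moveSub (k : V ≃ₗ[ZMod r] V) W = W := fun k hk W hW =>
    congrArg Subtype.val (DFunLike.congr_fun (MonoidHom.mem_ker.1 hk) (⟨W, hW⟩ : S))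
  have hKM : ∀ k ∈ K, k ∈ M₀ := fun k hk => ⟨k.2, hKmem k hk W₀ hW₀⟩
  choose c₀ hcG hc₀ using htr
  let c : S → G := fun W => ⟨c₀ W.1 W.2, hcG W.1 W.2⟩
  have hKc : ∀ k ∈ K, ∀ g : G, g⁻¹ * k * g ∈ K := fun k hk g => by
    simpa using (inferInstance : K.Normal).conj_mem k hk g⁻¹
  let cj : ∀ W : S, K →* X₁ := fun W => η.comp
    { toFun := fun k => ⟨(c W)⁻¹ * (k : G) * c W, hKM _ (hKc _ k.2 _)⟩
      map_one' := Subtype.ext (by simp)
      map_mul' := fun k k' => Subtype.ext (by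
        show (c W)⁻¹ * ((k : G) * (k' : G)) * c W = (c W)⁻¹ * (k : G) * c W * ((c W)⁻¹ * (k' : G) * c W)
        group) }
  let blk : Subgroup X₁ → Subgroup G := fun N => ((N.comap η).map M₀.subtype ⊓ K).normalCore
  have hblk : ∀ N : Subgroup X₁, ∀ a ∈ blk N, ∃ hk : a ∈ K, ∀ W, cj W ⟨a, hk⟩ ∈ N := by
    intro N a ha
    refine ⟨(Subgroup.normalCore_le _ ha).2, fun W => ?_⟩
    have h1 : (c W)⁻¹ * a * c W ∈ blk N := by
      simpa using (Subgroup.normalCore_normal ((N.comap η).map M₀.subtype ⊓ K)).conj_mem a ha (c W)⁻¹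
    obtain ⟨m, hm, hme⟩ := (Subgroup.normalCore_le _ h1).1
    have h2 : (⟨(c W)⁻¹ * a * c W, hKM _ (hKc a (Subgroup.normalCore_le _ ha).2 _)⟩ : M₀) = m :=
      Subtype.ext hme.symm
    show η ⟨(c W)⁻¹ * a * c W, hKM _ (hKc a (Subgroup.normalCore_le _ ha).2 _)⟩ ∈ N
    rw [h2]
    exact hm
  have hidx : ∀ N : Subgroup X₁, N.Normal → (blk N).index ≤ pf S.card * N.index ^ S.card := by
    intro N hN
    let Φ : K →* (S → X₁ ⧸ N) := Pi.monoidHom fun W => (QuotientGroup.mk' N).comp (cj W)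
    have hT : Φ.ker.map K.subtype ≤ blk N := by
      rintro _ ⟨k, hk, rfl⟩
      have hk' : ∀ W, cj W k ∈ N := fun W => (QuotientGroup.eq_one_iff _).1 (congrFun (MonoidHom.mem_ker.1 hk) W)
      intro x
      show x * (k : G) * x⁻¹ ∈ _
      have hxK : x * (k : G) * x⁻¹ ∈ K := (inferInstance : K.Normal).conj_mem _ k.2 x
      refine ⟨⟨⟨x * (k : G) * x⁻¹, hKM _ hxK⟩, ?_, rfl⟩, hxK⟩
      set W : S := (permHom hS x⁻¹) ⟨W₀, hW₀⟩ with hW
      have hmc : moveSub (((x : G) : V ≃ₗ[ZMod r] V) * ((c W : G) : V ≃ₗ[ZMod r] V)) W₀ = W₀ := by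
        rw [moveSub_mul, show moveSub ((c W : G) : V ≃ₗ[ZMod r] V) W₀ = (W : Submodule (ZMod r) V) from
          hc₀ W.1 W.2]
        show moveSub (x : V ≃ₗ[ZMod r] V) (moveSub ((x⁻¹ : G) : V ≃ₗ[ZMod r] V) W₀) = W₀
        rw [← moveSub_mul, Subgroup.coe_inv, mul_inv_cancel, moveSub_one]
      let m : M₀ := ⟨x * c W, ⟨(x * c W).2, hmc⟩⟩
      have hconj : η m * cj W k * (η m)⁻¹ ∈ N := hN.conj_mem _ (hk' W) _
      show η _ ∈ N
      convert hconj using 1
      rw [show cj W k = η ⟨(c W)⁻¹ * (k : G) * c W, hKM _ (hKc _ k.2 _)⟩ from rfl, ← map_inv, ← map_mul,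
        ← map_mul]
      refine congrArg η (Subtype.ext ?_)
      show x * (k : G) * x⁻¹ = x * c W * ((c W)⁻¹ * (k : G) * c W) * (x * c W)⁻¹
      group
    have hTK : Φ.ker.map K.subtype ≤ K := Subgroup.map_subtype_le _
    refine (Nat.le_of_dvd (Nat.pos_of_ne_zero Subgroup.index_ne_zero_of_finite)
      (Subgroup.index_dvd_of_le hT)).trans ?_
    rw [← Subgroup.relIndex_mul_index hTK, mul_comm]
    refine Nat.mul_le_mul (permHom_index_le hs hS) ?_
    show ((Φ.ker.map K.subtype).subgroupOf K).index ≤ _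
    rw [Subgroup.subgroupOf, Subgroup.comap_map_eq_self_of_injective K.subtype_injective, Subgroup.index_ker]
    refine (Subgroup.card_le_card_group _).trans (le_of_eq ?_)
    rw [Nat.card_pi, Finset.prod_const, Finset.card_univ, Fintype.card_coe]
    rfl
  set C₁ := Subgroup.centralizer (A₁ : Set X₁) with hC₁
  haveI : C₁.Normal := Subgroup.normal_centralizer
  haveI : (blk A₁).Normal := inferInstanceAs ((A₁.comap η).map M₀.subtype ⊓ K).normalCore.Normal
  have hLcen : ∀ a ∈ blk A₁, ∀ g ∈ blk C₁, g * a = a * g := by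
    intro a ha g hg
    obtain ⟨haK, haA⟩ := hblk A₁ a ha
    obtain ⟨hgK, hgC⟩ := hblk C₁ g hg
    set u : K := ⟨g, hgK⟩⁻¹ * ⟨a, haK⟩⁻¹ * ⟨g, hgK⟩ * ⟨a, haK⟩ with hu
    have hu1 : ∀ W, cj W u = 1 := fun W => by
      rw [hu, map_mul, map_mul, map_mul, map_inv, map_inv, mul_assoc _ _ (cj W ⟨a, haK⟩),
        ← (Subgroup.mem_centralizer_iff.1 (hgC W) _ (haA W))]
      group
    have hu2 : ((u : G) : V ≃ₗ[ZMod r] V) = 1 := by
      refine hS.eq_one _ fun W hW w hw => ?_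
      have hwm : ((c ⟨W, hW⟩ : G) : V ≃ₗ[ZMod r] V)⁻¹ w ∈ W₀ := mem_moveSub.1 (by
        rw [show moveSub ((c ⟨W, hW⟩ : G) : V ≃ₗ[ZMod r] V) W₀ = W from hc₀ W hW]; exact hw)
      have h1 : φ ⟨_, hKM _ (hKc _ u.2 (c ⟨W, hW⟩))⟩ = 1 := congrArg Subtype.val (hu1 ⟨W, hW⟩)
      have h2 := resHom_eq_one (inv_stab G W₀) h1 hwm
      change (((c ⟨W, hW⟩ : G)⁻¹ * (u : G) * c ⟨W, hW⟩ : G) : V ≃ₗ[ZMod r] V)
        (((c ⟨W, hW⟩ : G) : V ≃ₗ[ZMod r] V)⁻¹ w) = ((c ⟨W, hW⟩ : G) : V ≃ₗ[ZMod r] V)⁻¹ w at h2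
      rw [Subgroup.coe_mul, Subgroup.coe_mul, Subgroup.coe_inv, ← LinearEquiv.mul_apply, mul_assoc,
        mul_inv_cancel, mul_one, LinearEquiv.mul_apply] at h2
      exact (((c ⟨W, hW⟩ : G) : V ≃ₗ[ZMod r] V)⁻¹).injective h2
    have hu3 : g⁻¹ * a⁻¹ * g * a = 1 := Subtype.ext hu2
    calc g * a = g * a * 1 := (mul_one _).symm
      _ = g * a * (g⁻¹ * a⁻¹ * g * a)⁻¹ := by rw [hu3, inv_one]
      _ = a * g := by
        rw [show (1 : G) = g⁻¹ * a⁻¹ * g * a from hu3.symm] at *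
        group
  haveI := hd.normal_F
  set t := S.card with ht
  set AG := blk A₁ with hAG
  set CG := blk C₁ with hCG
  haveI : CG.Normal := inferInstanceAs ((C₁.comap η).map M₀.subtype ⊓ K).normalCore.Normal
  have hidxC : CG.index ≤ pf t * s ^ t :=
    (hidx C₁ inferInstance).trans (Nat.mul_le_mul_left _ (Nat.pow_le_pow_left hd.index_le _))
  have hidxA : AG.index ≤ pf t * s ^ t * W e ^ t := by
    refine (hidx A₁ hd.normal_A).trans ?_
    rw [mul_assoc, ← mul_pow]
    refine Nat.mul_le_mul_left _ (Nat.pow_le_pow_left ?_ _)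
    rw [← Subgroup.relIndex_mul_index (hd.le_F.trans hd.F_le), mul_comm s]
    exact Nat.mul_le_mul hd.relIndex_le hd.index_le
  have hclassA : Nat.card AG ≤ Nat.card (ConjClasses G) * CG.index := by
    have h1 := card_sub_one_le AG CG hLcen
    have h2 := nz_add AG
    have h3 : 1 ≤ Nat.card (ConjClasses (G ⧸ AG)) :=
      haveI : Nonempty (ConjClasses (G ⧸ AG)) := ⟨ConjClasses.mk 1⟩
      Nat.card_pos
    have h4 : 1 ≤ CG.index := Nat.pos_of_ne_zero Subgroup.index_ne_zero_of_finite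
    have h5 : (Nat.card (NzCls AG) + 1) * CG.index ≤ Nat.card (ConjClasses G) * CG.index :=
      Nat.mul_le_mul_right _ (by omega)
    rw [add_mul, one_mul] at h5
    omega
  have hcjinj : ∀ k : K, (∀ W, cj W k = 1) → k = 1 := by
    intro u hu1
    refine Subtype.ext (Subtype.ext (hS.eq_one _ fun W hW w hw => ?_))
    have hwm : ((c ⟨W, hW⟩ : G) : V ≃ₗ[ZMod r] V)⁻¹ w ∈ W₀ := mem_moveSub.1 (by
      rw [show moveSub ((c ⟨W, hW⟩ : G) : V ≃ₗ[ZMod r] V) W₀ = W from hc₀ W hW]; exact hw)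
    have h1 : φ ⟨_, hKM _ (hKc _ u.2 (c ⟨W, hW⟩))⟩ = 1 := congrArg Subtype.val (hu1 ⟨W, hW⟩)
    have h2 := resHom_eq_one (inv_stab G W₀) h1 hwm
    change (((c ⟨W, hW⟩ : G)⁻¹ * (u : G) * c ⟨W, hW⟩ : G) : V ≃ₗ[ZMod r] V)
      (((c ⟨W, hW⟩ : G) : V ≃ₗ[ZMod r] V)⁻¹ w) = ((c ⟨W, hW⟩ : G) : V ≃ₗ[ZMod r] V)⁻¹ w at h2
    rw [Subgroup.coe_mul, Subgroup.coe_mul, Subgroup.coe_inv, ← LinearEquiv.mul_apply, mul_assoc,
      mul_inv_cancel, mul_one, LinearEquiv.mul_apply] at h2
    exact (((c ⟨W, hW⟩ : G) : V ≃ₗ[ZMod r] V)⁻¹).injective h2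
  refine ⟨t, s, e, Nat.card AG, ht1, hto, hd.one_le_s, hd.one_le_e, hcard ▸ Nat.mul_le_mul_left _ hd.dim,
    hclassA.trans (Nat.mul_le_mul_left _ hidxC), ?_, fun q hq hqe => (hd.prime_dvd q hq hqe).trans hd.card_dvd, ?_⟩
  · refine hcount.trans (Nat.mul_le_mul_left _ ?_)
    rw [← AG.card_mul_index]
    exact Nat.mul_le_mul_left _ hidxA
  by_cases hpt : p ≤ t
  · exact Or.inl hpt
  by_cases hps : p ≤ s
  · exact Or.inr (Or.inl hps)
  by_cases hpe : p ∣ e
  · exact Or.inr (Or.inr (Or.inl hpe))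
  refine Or.inr (Or.inr (Or.inr ?_))
  set P := Cfsg.pCore p G with hPdef
  haveI : P.Normal := inferInstance
  have hPp : IsPGroup p P := CfsgLib.Coprime.pCore_isPGroup p
  have hPK : P ≤ K := by
    intro y hy
    obtain ⟨k, hk⟩ := hPp ⟨y, hy⟩
    have hyk : y ^ p ^ k = 1 := by simpa using congrArg Subtype.val hk
    rw [hK, MonoidHom.mem_ker, ← orderOf_eq_one_iff]
    obtain ⟨i, -, hi'⟩ := (Nat.dvd_prime_pow hp).1 (orderOf_dvd_of_pow_eq_one
      (show permHom hS y ^ p ^ k = 1 by rw [← map_pow, hyk, map_one]))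
    rcases i with _ | i
    · rw [hi', pow_zero]
    · have h1 : p ∣ (S.card).factorial := by
        refine (dvd_pow_self p (Nat.succ_ne_zero i)).trans (hi' ▸ (orderOf_dvd_natCard _).trans (dvd_of_eq ?_))
        rw [Nat.card_eq_fintype_card, Fintype.card_perm, Fintype.card_coe]
      exact absurd (hp.dvd_factorial.1 h1) hpt
  haveI : (P.subgroupOf M₀).Normal := inferInstance
  have hη : Function.Surjective η := by
    intro z
    obtain ⟨⟨w, hw⟩, hwz⟩ := φ.rangeRestrict_surjective z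
    exact ⟨⟨⟨w, hw.1⟩, ⟨hw.1, hw.2⟩⟩, hwz⟩
  set Q := (P.subgroupOf M₀).map η with hQdef
  haveI : Q.Normal := Subgroup.Normal.map inferInstance η hη
  have hQ : Q ≤ A₁ := le_field_of_pGroup hd (by omega) hpe ((hPp.comap_subtype).map η)
  have hcjA : ∀ y (hy : y ∈ P) (W : S), cj W ⟨y, hPK hy⟩ ∈ A₁ := fun y hy W =>
    hQ ⟨⟨(c W)⁻¹ * y * c W, hKM _ (hKc _ (hPK hy) _)⟩, by
      show (c W)⁻¹ * y * c W ∈ P
      simpa using ‹P.Normal›.conj_mem y hy (c W)⁻¹, rfl⟩
  obtain ⟨x, hxo⟩ : ∃ x : P, orderOf x = p := by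
    refine exists_prime_orderOf_dvd_card' p ?_
    obtain ⟨j, hj⟩ := IsPGroup.iff_card.1 hPp
    rcases j with _ | j
    · exact absurd (Subgroup.eq_bot_of_card_eq P (by simpa using hj)) hP
    · exact hj ▸ dvd_pow_self p (Nat.succ_ne_zero j)
  rw [← Subgroup.orderOf_coe] at hxo
  set xK : K := ⟨(x : G), hPK x.2⟩ with hxK
  obtain ⟨W, hW⟩ : ∃ W, cj W xK ≠ 1 := by
    by_contra! h
    have h1 : (x : G) = 1 := congrArg Subtype.val (hcjinj xK h)
    rw [h1, orderOf_one] at hxo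
    exact hp.ne_one hxo.symm
  set y := cj W xK with hy
  have hyo : orderOf y = p := by
    refine orderOf_eq_prime ?_ hW
    rw [hy, ← map_pow, show xK ^ p = 1 from Subtype.ext (by
      show (x : G) ^ p = 1
      rw [← hxo, pow_orderOf_eq_one]), map_one]
  have hyA : y ∈ A₁ := hcjA _ x.2 W
  have hps' : p ∣ r ^ s - 1 := by
    have h1 := orderOf_dvd_natCard (⟨y, hyA⟩ : A₁)
    rw [Subgroup.orderOf_mk, hyo] at h1
    exact h1.trans hd.card_dvd
  refine ⟨hps', classes_powers hxo fun g b hg => ?_, fun hr => ?_⟩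
  · -- the stabiliser of the block and the field automorphisms
    set σ := permHom hS g with hσ
    set ℓ := Function.minimalPeriod σ W with hℓ
    have hℓ1 : 0 < ℓ := Function.minimalPeriod_pos_of_mem_periodicPts
      (σ.injective.mem_periodicPts W)
    have hℓt : ℓ ≤ t := by
      refine (Nat.le_of_eq ?_).trans ((Finset.card_le_univ ((Finset.range ℓ).image fun i => (σ^[i]) W)).trans
        (le_of_eq (Fintype.card_coe S)))
      rw [Finset.card_image_of_injOn, Finset.card_range]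
      intro i hi j hj hij
      exact Function.iterate_injOn_Iio_minimalPeriod (Finset.mem_range.1 hi) (Finset.mem_range.1 hj) hij
    have hσW : moveSub ((g ^ ℓ : G) : V ≃ₗ[ZMod r] V) (W : Submodule (ZMod r) V) = W := by
      have h1 : (σ ^ ℓ) W = W := by
        rw [Equiv.Perm.coe_pow]
        exact Function.iterate_minimalPeriod
      rw [hσ, ← map_pow] at h1
      exact congrArg Subtype.val h1
    have hcW : moveSub ((c W : G) : V ≃ₗ[ZMod r] V) W₀ = (W : Submodule (ZMod r) V) := hc₀ W.1 W.2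
    have hm0 : moveSub (((c W)⁻¹ * g ^ ℓ * c W : G) : V ≃ₗ[ZMod r] V) W₀ = W₀ := by
      rw [Subgroup.coe_mul, Subgroup.coe_mul, moveSub_mul, hcW, moveSub_mul, hσW, Subgroup.coe_inv]
      exact moveSub_inv_eq hcW
    set m : M₀ := ⟨(c W)⁻¹ * g ^ ℓ * c W, ⟨((c W)⁻¹ * g ^ ℓ * c W).2, hm0⟩⟩ with hm
    set ρ := orderOf ((η m : X₁) : X₁ ⧸ C₁) with hρ
    have hρ1 : 0 < ρ := orderOf_pos _
    have hρs : ρ ≤ s := (Nat.le_of_dvd Nat.card_pos (orderOf_dvd_natCard _)).trans hd.index_le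
    refine ⟨ℓ * ρ, Nat.mul_pos hℓ1 hρ1, Nat.mul_le_mul hℓt hρs, ?_⟩
    have hconj : ∀ i : ℕ, g ^ i * (x : G) * (g ^ i)⁻¹ = (x : G) ^ (b ^ i) := by
      intro i
      induction i with
      | zero => simp
      | succ i ih =>
        calc g ^ (i + 1) * (x : G) * (g ^ (i + 1))⁻¹ = g * (g ^ i * (x : G) * (g ^ i)⁻¹) * g⁻¹ := by
              rw [pow_succ']; group
          _ = (x : G) ^ (b ^ (i + 1)) := by rw [ih, ← conj_pow, hg, ← pow_mul, pow_succ']
    have hmC : (η m) ^ ρ ∈ C₁ := by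
      rw [← QuotientGroup.eq_one_iff, QuotientGroup.mk_pow]
      exact pow_orderOf_eq_one _
    let ym : M₀ := ⟨(c W)⁻¹ * (x : G) * c W, hKM _ (hKc _ (hPK x.2) _)⟩
    have hym : η ym = y := rfl
    have h1 : m ^ ρ * ym * (m ^ ρ)⁻¹ = ym ^ (b ^ (ℓ * ρ)) := by
      refine Subtype.ext ?_
      show ((c W)⁻¹ * g ^ ℓ * c W) ^ ρ * ((c W)⁻¹ * (x : G) * c W) * (((c W)⁻¹ * g ^ ℓ * c W) ^ ρ)⁻¹ =
        ((c W)⁻¹ * (x : G) * c W) ^ (b ^ (ℓ * ρ))
      have key : ∀ (z : G) (i : ℕ), ((c W)⁻¹ * z * c W) ^ i = (c W)⁻¹ * z ^ i * c W := fun z i => by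
        simpa using conj_pow (a := (c W)⁻¹) (b := z) (i := i)
      rw [key, key, ← pow_mul, ← hconj (ℓ * ρ)]
      group
    have h2 := congrArg η h1
    rw [map_mul, map_mul, map_inv, map_pow, map_pow, hym,
      ← Subgroup.mem_centralizer_iff.1 hmC y hyA, mul_inv_cancel_right] at h2
    have h3 : y ^ (b ^ (ℓ * ρ)) = y ^ 1 := by rw [pow_one, ← h2]
    rw [pow_eq_pow_iff_modEq, hyo, ← ZMod.natCast_eq_natCast_iff] at h3
    push_cast at h3
    exact h3
  · -- `r ^ s = p + 1`: the field part is a `p`-group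
    have hAp : IsPGroup p AG := fun z => ⟨1, by
      obtain ⟨hzK, hzA⟩ := hblk A₁ _ z.2
      have h1 : (⟨(z : G), hzK⟩ : K) ^ p = 1 := hcjinj _ fun W => by
        rw [map_pow]
        obtain ⟨i, hi⟩ := hd.card_dvd
        have h2 : (⟨_, hzA W⟩ : A₁) ^ p = 1 := by
          rw [← hr, hi, pow_mul, pow_card_eq_one', one_pow]
        exact congrArg Subtype.val h2
      rw [pow_one]
      refine Subtype.ext ?_
      simpa using congrArg Subtype.val h1⟩
    exact IsPGroup.iff_card.1 hAp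

/-- the bound from the facts -/
theorem bound_of_facts {p r n k o t s e a : ℕ} (hr : r.Prime) (hp : p.Prime) (hp16 : 16 ≤ p)
    (hf : Facts p r n k o t s e a) : p ≤ 3 * Nat.log 2 p * (k + o) ∨ (p = 8191 ∧ 214 ≤ k + o) := by
  set L := Nat.log 2 p with hLdef
  have hL : 2 ^ L ≤ p := Nat.pow_log_le_self 2 hp.ne_zero
  have hL' : p < 2 ^ (L + 1) := Nat.lt_pow_succ_log_self (by norm_num) p
  have hL4 : 4 ≤ L := Nat.le_log_of_pow_le (by norm_num) (by simpa using hp16)
  by_contra hcon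
  push Not at hcon
  obtain ⟨hcon, h214⟩ := hcon
  have hp17 : 17 ≤ p := by
    rcases hp16.eq_or_lt with h | h
    · rw [← h] at hp; norm_num at hp
    · omega
  have hk : 3 * L * k < p := lt_of_le_of_lt (Nat.mul_le_mul_left _ (Nat.le_add_right k o)) hcon
  have hoL : 3 * L * o < p := lt_of_le_of_lt (Nat.mul_le_mul_left _ (Nat.le_add_left o k)) hcon
  have hk1 : 1 ≤ k := by
    rcases Nat.eq_zero_or_pos k with rfl | h
    · rcases hf.main with h | h | h | ⟨-, h, -⟩
      all_goals have hA := hf.class_A; have hO := hf.orbit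
      all_goals
        obtain rfl : a = 0 := by simpa using hA
        simp only [zero_mul, mul_zero, Nat.le_zero] at hO
        have h2 : 2 ≤ r ^ n := le_trans hr.two_le (Nat.le_self_pow (by
          have := Nat.mul_pos hf.one_t (Nat.mul_pos hf.one_s hf.one_e)
          have := hf.dim
          omega) r)
        omega
    · exact h
  set q := pf t * s ^ t with hq
  set X := r ^ s with hX
  have hW1 : 1 ≤ W e := W_pos hf.one_e
  have hWt : 1 ≤ W e ^ t := Nat.one_le_pow _ _ hW1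
  have hX2s : 2 ^ s ≤ X := Nat.pow_le_pow_left hr.two_le s
  have hX2 : 2 ≤ X := le_trans (Nat.pow_le_pow_right two_pos hf.one_s) hX2s
  -- orbits against classes of the field part
  have hcnt : X ^ (t * e) - 1 ≤ o * (k * q) * q * W e ^ t := by
    have h1 : X ^ (t * e) ≤ r ^ n := by
      rw [hX, ← pow_mul]
      exact Nat.pow_le_pow_right hr.pos (le_trans (le_of_eq (by ring)) hf.dim)
    refine (Nat.sub_le_sub_right h1 1).trans (hf.orbit.trans ?_)
    calc o * (a * (q * W e ^ t)) ≤ o * (k * q * (q * W e ^ t)) :=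
          Nat.mul_le_mul_left _ (Nat.mul_le_mul_right _ hf.class_A)
      _ = o * (k * q) * q * W e ^ t := by ring
  -- if `(9 s ^ 2 p ^ 2) ^ t` fits into `V` the product is too large
  have hover : p * p * (9 * s * s) ^ t * W e ^ t ≤ 81 * L * L * (X ^ (t * e) - 1) → False := by
    intro hbig
    have hq9 : 9 * q ^ 2 ≤ (9 * s * s) ^ t := by
      obtain ⟨j, hj⟩ : ∃ j, t = j + 1 := ⟨t - 1, by have := hf.one_t; omega⟩
      rw [hq, hj, show (9 * s * s) ^ (j + 1) = 9 * (9 ^ j * (s ^ (j + 1)) ^ 2) by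
        rw [mul_assoc, mul_pow, mul_pow]; ring]
      have := pf_sq_le (j + 1)
      rw [Nat.add_sub_cancel] at this
      rw [mul_pow]
      exact Nat.mul_le_mul_left _ (Nat.mul_le_mul_right _ this)
    have h1 : 81 * L * L * (o * (k * q) * q * W e ^ t) < p * p * (9 * q ^ 2) * W e ^ t := by
      calc 81 * L * L * (o * (k * q) * q * W e ^ t) = (3 * L * o) * (3 * L * k) * (9 * q ^ 2 * W e ^ t) := by ring
        _ < p * p * (9 * q ^ 2 * W e ^ t) := by
          refine Nat.mul_lt_mul_of_pos_right (Nat.mul_lt_mul_of_lt_of_lt hoL hk) ?_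
          have : 1 ≤ q := Nat.mul_pos (lt_min (Nat.factorial_pos t) (pow_pos (by norm_num) _)) (pow_pos hf.one_s _)
          positivity
        _ = p * p * (9 * q ^ 2) * W e ^ t := by ring
    have h2 : p * p * (9 * q ^ 2) * W e ^ t ≤ p * p * (9 * s * s) ^ t * W e ^ t :=
      Nat.mul_le_mul_right _ (Nat.mul_le_mul_left _ hq9)
    have h3 := Nat.mul_le_mul_left (81 * L * L) hcnt
    omega
  have h1296 : 1296 ≤ 81 * L * L := by nlinarith
  rcases hf.main with hpt | hps | hpe | ⟨hdvd, hcls, hpg⟩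
  · have h1 : p ≤ o := hpt.trans hf.t_le
    have : o ≤ 3 * L * o := Nat.le_mul_of_pos_left _ (by omega)
    omega
  · -- a field of degree at least `p`
    obtain ⟨h4, h9⟩ := deep (show 16 ≤ s by omega)
    have hXe : X * W e ≤ X ^ e := mul_W_le hf.one_e
      (le_trans (le_trans (by norm_num) (Nat.pow_le_pow_right two_pos (show 5 ≤ s by omega))) hX2s)
      (fun _ => le_trans (le_trans (by norm_num) (Nat.pow_le_pow_right two_pos (show 5 ≤ s by omega))) hX2s)
    obtain ⟨j, rfl⟩ : ∃ j, t = j + 1 := ⟨t - 1, by have := hf.one_t; omega⟩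
    have hA : p * p * (9 * s * s) ^ (j + 1) * W e ^ (j + 1) ≤ 9 * X ^ ((j + 1) * e) := by
      calc p * p * (9 * s * s) ^ (j + 1) * W e ^ (j + 1)
          ≤ s * s * (9 * s * s) ^ (j + 1) * W e ^ (j + 1) := by gcongr
        _ = 9 * s ^ 4 * (9 * s * s) ^ j * W e ^ (j + 1) := by ring
        _ ≤ 9 * X * X ^ j * W e ^ (j + 1) := by
          have := h4.trans hX2s
          have := h9.trans hX2s
          gcongr
        _ = 9 * (X * W e) ^ (j + 1) := by ring
        _ ≤ 9 * (X ^ e) ^ (j + 1) := by gcongr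
        _ = 9 * X ^ ((j + 1) * e) := by rw [← pow_mul, mul_comm e]
    refine hover (hA.trans ?_)
    have : 2 ≤ X ^ ((j + 1) * e) := le_trans hX2 (Nat.le_self_pow (Nat.mul_pos (by omega) hf.one_e).ne' X)
    calc 9 * X ^ ((j + 1) * e) ≤ 1296 * (X ^ ((j + 1) * e) - 1) := by omega
      _ ≤ _ := Nat.mul_le_mul_right _ h1296
  · -- wide symplectic type
    have hpX : p ≤ X - 1 := Nat.le_of_dvd (by omega) (hf.prime_dvd p hp hpe)
    have he17 : 17 ≤ e := hp17.trans (Nat.le_of_dvd hf.one_e hpe)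
    have hw := wide (s := s) he17 (show 18 ≤ X by omega) hX2s
    obtain ⟨j, rfl⟩ : ∃ j, t = j + 1 := ⟨t - 1, by have := hf.one_t; omega⟩
    have hA : p * p * (9 * s * s) ^ (j + 1) * W e ^ (j + 1) ≤ X ^ ((j + 1) * e) := by
      calc p * p * (9 * s * s) ^ (j + 1) * W e ^ (j + 1)
          ≤ (X * X) ^ (j + 1) * (9 * s * s) ^ (j + 1) * W e ^ (j + 1) := by
            gcongr
            exact le_trans (Nat.mul_le_mul (by omega) (by omega)) (Nat.le_self_pow (by omega) _)
        _ = (W e * (9 * s * s * (X * X))) ^ (j + 1) := by ring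
        _ ≤ (X ^ e) ^ (j + 1) := by gcongr
        _ = X ^ ((j + 1) * e) := by rw [← pow_mul, mul_comm e]
    refine hover (hA.trans ?_)
    have : 2 ≤ X ^ ((j + 1) * e) := le_trans hX2 (Nat.le_self_pow (Nat.mul_pos (by omega) hf.one_e).ne' X)
    calc X ^ ((j + 1) * e) ≤ 1296 * (X ^ ((j + 1) * e) - 1) := by omega
      _ ≤ _ := Nat.mul_le_mul_right _ h1296
  · -- the generic case
    have hp1 := hp.one_le
    have hts : 1 ≤ t * s := Nat.mul_pos hf.one_t hf.one_s
    have hkts : p ≤ k * (t * s) := by omega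
    have ht : 3 * L < t * s := by
      by_contra h
      have : k * (t * s) ≤ k * (3 * L) := Nat.mul_le_mul_left _ (not_lt.1 h)
      rw [mul_comm k (3 * L)] at this
      omega
    have htp : 3 * L * t < p := lt_of_le_of_lt (Nat.mul_le_mul_left _ hf.t_le) hoL
    set d := t * s - 3 * L with hd
    have h3 : 3 * L * o * (t * s) < p * d := by
      have h1 : 3 * L * (k + o) * (t * s) < p * (t * s) := Nat.mul_lt_mul_of_pos_right hcon (by omega)
      have h2 : 3 * L * p ≤ 3 * L * (k * (t * s)) := Nat.mul_le_mul_left _ hkts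
      rw [hd, Nat.mul_sub, mul_comm p (3 * L)]
      have e1 : 3 * L * (k + o) * (t * s) = 3 * L * (k * (t * s)) + 3 * L * o * (t * s) := by ring
      omega
    have hpX : p ≤ X - 1 := Nat.le_of_dvd (by omega) hdvd
    have hodd : r = 2 ∨ (Odd X ∧ 3 ^ s ≤ X) := by
      rcases hr.eq_two_or_odd' with h | h
      · exact Or.inl h
      · exact Or.inr ⟨h.pow, Nat.pow_le_pow_left (by
          have := hr.two_le; obtain ⟨i, hi⟩ := h; omega) s⟩
    have hXe : X * W e ≤ X ^ e := mul_W_le hf.one_e (by omega) fun he => by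
      have h2 := hf.prime_dvd 2 Nat.prime_two (he ▸ dvd_rfl)
      rcases hodd with rfl | ⟨⟨i, hi⟩, -⟩
      · exfalso
        obtain ⟨i, hi⟩ : ∃ i, s = i + 1 := ⟨s - 1, by have := hf.one_s; omega⟩
        rw [hi, pow_succ] at h2
        have := Nat.two_pow_pos i
        omega
      · obtain ⟨i', hi'⟩ := hdvd
        rw [← hX] at hi'
        by_contra h24
        have h4 : i' ≤ 1 := by
          by_contra h5
          have : p * 2 ≤ p * i' := Nat.mul_le_mul_left _ (by omega)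
          omega
        interval_cases i'
        · omega
        · have := hp.eq_two_or_odd
          omega
    have hXt : (X ^ t - 1) * W e ^ t ≤ X ^ (t * e) - 1 := by
      rw [Nat.sub_mul, one_mul, ← mul_pow, mul_comm t e, pow_mul]
      have h1 : (X * W e) ^ t ≤ (X ^ e) ^ t := Nat.pow_le_pow_left hXe t
      omega
    have hXt' : X ^ t - 1 ≤ o * (k * q) * q :=
      Nat.le_of_mul_le_mul_right (hXt.trans hcnt) (by omega)
    have h1 : 3 * L * t * s * t < p * d := lt_of_le_of_lt (by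
      rw [show 3 * L * t * s * t = 3 * L * t * (t * s) by ring]
      exact Nat.mul_le_mul_right _ (Nat.mul_le_mul_left _ hf.t_le)) h3
    have h2 : 9 * L * L * (t * s) * (X ^ t - 1) < p * p * q ^ 2 * d := by
      refine lt_of_le_of_lt (Nat.mul_le_mul_left _ hXt') ?_
      have hq1 : 1 ≤ q := Nat.mul_pos (lt_min (Nat.factorial_pos t) (pow_pos (by norm_num) _)) (pow_pos hf.one_s _)
      calc 9 * L * L * (t * s) * (o * (k * q) * q) = (3 * L * o * (t * s)) * (3 * L * k) * q ^ 2 := by ring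
        _ < p * d * p * q ^ 2 := Nat.mul_lt_mul_of_pos_right (Nat.mul_lt_mul_of_lt_of_lt h3 hk) (by positivity)
        _ = p * p * q ^ 2 * d := by ring
    refine arith hp hL hL' hL4 hX2s hf.one_s hdvd ?_ hX2 ?_ ht htp h1 h2
    · rcases hodd with rfl | h
      · exact Or.inl rfl
      · exact Or.inr h
    rintro ⟨rfl, h34, rfl, hX8⟩
    have h214' := h214 rfl
    have hL12 : L = 12 := by
      have := (Nat.pow_le_pow_iff_right (show 1 < 2 by norm_num)).1 (hL.trans (show 8191 ≤ 2 ^ 13 by norm_num))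
      have := (Nat.pow_lt_pow_iff_right (show 1 < 2 by norm_num)).1 (lt_of_le_of_lt (show 2 ^ 12 ≤ 8191 by norm_num) hL')
      rcases Nat.lt_or_ge L 13 with h | h
      · omega
      · have : 2 ^ 13 ≤ 2 ^ L := Nat.pow_le_pow_right two_pos h
        omega
    rcases h34 with rfl | rfl
    · have := hf.t_le
      omega
    · have hr13 : r ^ 13 - 1 = 8191 := by rw [show r ^ 13 = 8192 from hX8]
      obtain ⟨j, rfl⟩ := hpg hr13
      have hq4 : q = 685464 := by rw [hq]; rfl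
      have hk2 : 159 ≤ k := by omega
      rcases Nat.lt_or_ge j 3 with hj | hj
      · have h5 : 8191 ^ j ≤ 8191 ^ 2 := Nat.pow_le_pow_right (by norm_num) (by omega)
        have h6 : (8192 ^ 4 - 1) * W e ^ 4 ≤ o * (8191 ^ 2 * q) * W e ^ 4 := by
          have h7 : X ^ (4 * e) ≤ r ^ n := by
            rw [hX, ← pow_mul]
            exact Nat.pow_le_pow_right hr.pos (le_trans (le_of_eq (by ring)) hf.dim)
          rw [hX8] at hXt
          refine hXt.trans ((Nat.sub_le_sub_right (hX8 ▸ h7) 1).trans (hf.orbit.trans ?_))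
          calc o * (8191 ^ j * (q * W e ^ 4)) ≤ o * (8191 ^ 2 * (q * W e ^ 4)) := by gcongr
            _ = _ := by ring
        have h8 := Nat.le_of_mul_le_mul_right h6 (by omega)
        rw [hq4] at h8
        norm_num at h8
        omega
      · have h5 : 8191 ^ 3 ≤ 8191 ^ j := Nat.pow_le_pow_right (by norm_num) hj
        have h6 := h5.trans hf.class_A
        rw [← hq, hq4] at h6
        norm_num at h6
        omega

end CfsgLib.Coprime.ClassLog
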