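import Cfsg.Agent.Lib.Coprime.ClassLog.Linear
import Cfsg.Agent.Lib.Coprime.Solvable

/-!
# The bound `p / (3 log₂ p)`: the reduction to the linear group
-/

set_option autoImplicit false
set_option linter.unusedSectionVars false
set_option linter.style.haveILetI false
set_option maxHeartbeats 2000000

namespace CfsgLib.Coprime.ClassLog

open Module CfsgLib.Char CfsgLib.Char.Berger CfsgLib.Coprime.ClassMod CfsgLib.Coprime.ClassLower

universe u

/-- the natural number form of the bound -/
def Bd (q k : ℕ) : Prop := q ≤ 3 * Nat.log 2 q * k ∨ (q = 8191 ∧ 214 ≤ k)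

theorem Bd.mono {q k k' : ℕ} (h : Bd q k) (hk : k ≤ k') : Bd q k' :=
  h.imp (fun h => h.trans (Nat.mul_le_mul_left _ hk)) fun h => ⟨h.1, h.2.trans hk⟩

variable {G : Type u} [Group G] [Finite G]

theorem pCore_index_of_fitting {q : ℕ} [Fact q.Prime] (h : ¬ q ∣ (Cfsg.fittingSubgroup G).index) :
    ¬ q ∣ (Cfsg.pCore q G).index := by
  set F := Cfsg.fittingSubgroup G with hF
  haveI : F.Normal := CfsgLib.Coprime.fitting_normal
  haveI : Group.IsNilpotent F := CfsgLib.Coprime.fitting_isNilpotent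
  obtain ⟨P⟩ := (inferInstance : Nonempty (Sylow q F))
  haveI hPn : (P : Subgroup F).Normal :=
    ((Group.isNilpotent_of_finite_tfae (G := F)).out 0 3 rfl rfl).1 ‹_› q ‹_› P
  haveI := P.characteristic_of_normal hPn
  haveI : ((P : Subgroup F).map F.subtype).Normal := ConjAct.normal_of_characteristic_of_normal
  have hle : (P : Subgroup F).map F.subtype ≤ Cfsg.pCore q G :=
    le_sSup ⟨inferInstance, P.isPGroup'.map _⟩
  intro hd
  have h1 : q ∣ ((P : Subgroup F).map F.subtype).index := hd.trans (Subgroup.index_dvd_of_le hle)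
  rw [Subgroup.index_map_subtype] at h1
  rcases (Fact.out : q.Prime).dvd_mul.1 h1 with h2 | h2
  · exact P.not_dvd_index h2
  · exact h h2

variable {p : ℕ} [Fact p.Prime] {q : ℕ} [Fact q.Prime]

/-- the faithful irreducible action -/
theorem case_irred [Group.IsSolvable G] (V : Subgroup G) [V.Normal] {n : ℕ} (hn : 1 ≤ n) (hV : Nat.card V = p ^ n)
    (hexp : ∀ x ∈ V, x ^ p = 1) (habV : ∀ x ∈ V, ∀ y ∈ V, x * y = y * x)
    (hmin : ∀ U : Subgroup G, U.Normal → U ≤ V → U = ⊥ ∨ U = V) (hC : Subgroup.centralizer (V : Set G) = V)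
    (hq16 : 16 ≤ q) (hcore : Cfsg.pCore q (G ⧸ V) ≠ ⊥) : Bd q (Nat.card (ConjClasses G)) := by
  classical
  letI : CommGroup V := { (inferInstance : Group V) with mul_comm := fun x y => Subtype.ext (habV _ x.2 _ y.2) }
  have hexp' : ∀ x : V, x ^ p = 1 := fun x => Subtype.ext (hexp _ x.2)
  letI : Module (ZMod p) (Additive V) :=
    AddCommGroup.zmodModule (n := p) (fun a : Additive V => congrArg Additive.ofMul (hexp' a.toMul))
  haveI : Finite (Additive V) := Finite.of_equiv V Additive.ofMul
  let L : G →* (Additive V ≃ₗ[ZMod p] Additive V) := (toLin p V).comp (MulAut.conjNormal : G →* MulAut V)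
  haveI := finite_gl (p := p) (V := Additive V)
  have hL : ∀ (g : G) (x : V), ((Additive.toMul (L g (Additive.ofMul x)) : V) : G) = g * x * g⁻¹ := fun g x => rfl
  have hker : L.ker = V := by
    refine le_antisymm (fun g hg => ?_) (fun g hg => MonoidHom.mem_ker.2 (LinearEquiv.ext fun w => ?_))
    · rw [← hC, Subgroup.mem_centralizer_iff]
      intro x hx
      have h1 : g * x * g⁻¹ = x := by
        rw [← hL g ⟨x, hx⟩, MonoidHom.mem_ker.1 hg]; rfl
      exact (mul_inv_eq_iff_eq_mul.1 h1).symm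
    · refine Additive.toMul.injective (Subtype.ext ?_)
      show g * ((Additive.toMul w : V) : G) * g⁻¹ = _
      rw [habV g hg _ (Additive.toMul w).2, mul_inv_cancel_right]
      rfl
  have hd : finrank (ZMod p) (Additive V) = n := by
    refine Nat.pow_right_injective (Fact.out : p.Prime).two_le ?_
    show p ^ finrank (ZMod p) (Additive V) = p ^ n
    rw [← hV, Nat.card_congr (Additive.ofMul (α := V)), Module.natCard_eq_pow_finrank (K := ZMod p) (V := Additive V),
      Nat.card_zmod]
  have hs : Group.IsSolvable L.range := Group.isSolvable_of_surjective L.rangeRestrict_surjective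
  have hi : Irr L.range := by
    intro W hW
    let U : Subgroup G :=
      { carrier := {x | ∃ hx : x ∈ V, Additive.ofMul (⟨x, hx⟩ : V) ∈ W}
        one_mem' := ⟨one_mem V, zero_mem W⟩
        mul_mem' := fun {a b} ha hb => ⟨mul_mem ha.1 hb.1, add_mem (s := W) ha.2 hb.2⟩
        inv_mem' := fun {a} ha => ⟨inv_mem ha.1, neg_mem (s := W) ha.2⟩ }
    haveI : U.Normal := ⟨fun x hx g => ⟨‹V.Normal›.conj_mem x hx.1 g, hW (L g) ⟨g, rfl⟩ _ hx.2⟩⟩
    rcases hmin U inferInstance (fun x hx => hx.1) with h | h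
    · refine Or.inl ((Submodule.eq_bot_iff W).2 fun w hw => ?_)
      have h1 : ((Additive.toMul w : V) : G) ∈ U := ⟨(Additive.toMul w).2, hw⟩
      rw [h, Subgroup.mem_bot] at h1
      exact Additive.toMul.injective (Subtype.ext h1)
    · refine Or.inr (eq_top_iff.2 fun w _ => ?_)
      have h1 : ((Additive.toMul w : V) : G) ∈ U := h.symm ▸ (Additive.toMul w).2
      exact h1.2
  have hk : Nat.card (ConjClasses L.range) ≤ Nat.card (ConjClasses (G ⧸ V)) :=
    card_conjClasses_le_of_surjective
      ((QuotientGroup.quotientKerEquivRange L).toMonoidHom.comp (QuotientGroup.quotientMulEquivOfEq hker.symm).toMonoidHom)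
      ((QuotientGroup.quotientKerEquivRange L).surjective.comp (QuotientGroup.quotientMulEquivOfEq hker.symm).surjective)
  have hcardL : Nat.card L.range = V.index := by rw [← Subgroup.index_ker, hker]
  have h2 := card_sub_one_le V V fun x hx g hg => habV g hg x hx
  rw [hV, ← hcardL] at h2
  haveI : Nontrivial (Additive V) := Module.nontrivial_of_finrank_pos (R := ZMod p) (by omega)
  let f : G ⧸ V →* L.range :=
    (QuotientGroup.quotientKerEquivRange L).toMonoidHom.comp (QuotientGroup.quotientMulEquivOfEq hker.symm).toMonoidHom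
  have hfb : Function.Bijective f :=
    (QuotientGroup.quotientKerEquivRange L).bijective.comp (QuotientGroup.quotientMulEquivOfEq hker.symm).bijective
  have hP : Cfsg.pCore q L.range ≠ ⊥ := by
    intro h
    refine hcore ((Subgroup.map_eq_bot_iff_of_injective _ hfb.1).1 (eq_bot_iff.2 ?_))
    rw [← h]
    exact le_sSup ⟨(inferInstance : (Cfsg.pCore q (G ⧸ V)).Normal).map f hfb.2,
      (CfsgLib.Coprime.pCore_isPGroup q).map f⟩
  have hk' : Nat.card (ConjClasses L.range) + Nat.card (NzCls V) ≤ Nat.card (ConjClasses G) := by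
    have h1 := nz_add V
    omega
  have ho : ∀ T : Finset (Additive V), (∀ a ∈ T, a ≠ 0) →
      (∀ a ∈ T, ∀ b ∈ T, ∀ g ∈ L.range, g a = b → a = b) → T.card ≤ Nat.card (NzCls V) := by
    intro T hT0 hT
    let f : T → NzCls V := fun a => ⟨⟨ConjClasses.mk ((Additive.toMul (a : Additive V) : V) : G), _,
      (Additive.toMul (a : Additive V)).2, rfl⟩, fun h => hT0 a a.2 (Additive.toMul.injective (Subtype.ext
        (isConj_one_left.1 (ConjClasses.mk_eq_mk_iff_isConj.1 h))))⟩
    have hf : Function.Injective f := fun a b hab => by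
      obtain ⟨g, hg⟩ := isConj_iff.1 (ConjClasses.mk_eq_mk_iff_isConj.1 (congrArg (fun c : NzCls V => c.1.1) hab))
      exact Subtype.ext (hT a a.2 b b.2 (L g) ⟨g, rfl⟩ (Additive.toMul.injective (Subtype.ext hg)))
    have h3 := Nat.card_le_card_of_injective f hf
    rwa [Nat.card_eq_fintype_card, Fintype.card_coe] at h3
  obtain ⟨t, s, e, a, hf⟩ := exists_facts L.range hs hi hP (Nat.card (NzCls V)) ho (by rwa [hd])
  exact Bd.mono (bound_of_facts Fact.out Fact.out hq16 hf) hk'

/-- a prime below 16 -/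
theorem small {k : ℕ} (hq : q < 16) (hk : 2 ≤ k) : Bd q k := by
  refine Or.inl ?_
  have h1 : ∀ m < 16, m.Prime → m ≤ 3 * Nat.log 2 m * 2 := by decide +kernel
  exact (h1 q hq Fact.out).trans (Nat.mul_le_mul_left _ hk)

omit [Group G] [Finite G] in
/-- **the class number bound** -/
theorem class_log : ∀ (m : ℕ) (G : Type u) [Group G] [Finite G], Nat.card G = m → Group.IsSolvable G →
    q ∣ (Cfsg.fittingSubgroup G).index → Bd q (Nat.card (ConjClasses G)) := by
  intro m
  induction m using Nat.strong_induction_on with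
  | _ m ih =>
  intro G _ _ hm hs hqd
  classical
  haveI := hs
  have hq : q.Prime := Fact.out
  have hqG : q ∣ Nat.card G := hqd.trans (Subgroup.index_dvd_card _)
  haveI : Nontrivial G := Finite.one_lt_card_iff_nontrivial.1 (lt_of_lt_of_le hq.one_lt (Nat.le_of_dvd Nat.card_pos hqG))
  rcases Nat.lt_or_ge q 16 with hq16 | hq16
  · refine small hq16 ?_
    haveI : Nontrivial (ConjClasses G) := by
      obtain ⟨x, hx⟩ := exists_ne (1 : G)
      exact ⟨ConjClasses.mk x, ConjClasses.mk 1, fun h => hx (isConj_one_left.1 (ConjClasses.mk_eq_mk_iff_isConj.1 h))⟩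
    exact Finite.one_lt_card
  by_cases hno : ∀ N : Subgroup G, ∀ _ : N.Normal, N ≠ ⊥ → ¬ q ∣ (Cfsg.fittingSubgroup (G ⧸ N)).index
  swap
  · push Not at hno
    obtain ⟨N, hN, hN0, hd⟩ := hno
    have hlt : Nat.card (G ⧸ N) < m := by
      rw [← hm, ← N.card_mul_index]
      exact lt_mul_of_one_lt_left (Nat.pos_of_ne_zero Subgroup.index_ne_zero_of_finite) (N.one_lt_card_iff_ne_bot.2 hN0)
    exact (ih _ hlt (G ⧸ N) rfl (Group.isSolvable_of_surjective (QuotientGroup.mk'_surjective N)) hd).mono
      (card_conjClasses_le_of_surjective (QuotientGroup.mk' N) (QuotientGroup.mk'_surjective N))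
  obtain ⟨p, V, hp, hVn, -, hV0, hVab, hVexp, hVmin⟩ :=
    exists_minimal_normal_elementary_sub (D := (⊤ : Subgroup G)) top_ne_bot
  haveI := hVn
  haveI : Fact p.Prime := ⟨hp⟩
  obtain ⟨n, hn⟩ : ∃ n, Nat.card V = p ^ n := IsPGroup.iff_card.1
    fun x => ⟨1, Subtype.ext (by rw [pow_one, SubgroupClass.coe_pow, hVexp x x.2]; rfl)⟩
  have hn1 : 1 ≤ n := Nat.pos_of_ne_zero (by
    rintro rfl
    exact hV0 (Subgroup.eq_bot_of_card_eq _ (by simpa using hn)))
  set π := QuotientGroup.mk' V with hπ
  -- the only minimal normal subgroup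
  have huniq : ∀ N : Subgroup G, N.Normal → N ≠ ⊥ → V ≤ N := by
    intro N hN hN0
    haveI := hN
    by_contra hVN
    have hbot : V ⊓ N = ⊥ := (hVmin _ inferInstance inf_le_left).resolve_right fun h => hVN (h ▸ inf_le_right)
    set F₁ := (Cfsg.fittingSubgroup (G ⧸ V)).comap π with hF₁
    set F₂ := (Cfsg.fittingSubgroup (G ⧸ N)).comap (QuotientGroup.mk' N) with hF₂
    haveI := CfsgLib.Coprime.fitting_normal (G := G ⧸ V)
    haveI := CfsgLib.Coprime.fitting_normal (G := G ⧸ N)
    haveI : F₁.Normal := inferInstance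
    haveI : F₂.Normal := inferInstance
    let ψ : (F₁ ⊓ F₂ : Subgroup G) →* Cfsg.fittingSubgroup (G ⧸ V) × Cfsg.fittingSubgroup (G ⧸ N) :=
      ((π.comp (Subgroup.subtype _)).codRestrict _ fun x => (Subgroup.mem_inf.1 x.2).1).prod
        (((QuotientGroup.mk' N).comp (Subgroup.subtype _)).codRestrict _ fun x => (Subgroup.mem_inf.1 x.2).2)
    have hψ : Function.Injective ψ := (injective_iff_map_eq_one ψ).2 fun x hx => by
      have h1 : (x : G) ∈ V ⊓ N := ⟨(QuotientGroup.eq_one_iff _).1 (congrArg Subtype.val (congrArg Prod.fst hx)),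
        (QuotientGroup.eq_one_iff _).1 (congrArg Subtype.val (congrArg Prod.snd hx))⟩
      rw [hbot, Subgroup.mem_bot] at h1
      exact Subtype.ext h1
    haveI := CfsgLib.Coprime.fitting_isNilpotent (G := G ⧸ V)
    haveI := CfsgLib.Coprime.fitting_isNilpotent (G := G ⧸ N)
    have hnil : Group.IsNilpotent (F₁ ⊓ F₂ : Subgroup G) :=
      Group.nilpotent_of_mulEquiv (MonoidHom.ofInjective hψ).symm
    have hle := CfsgLib.Coprime.le_fitting hnil
    have hd := hqd.trans (Subgroup.index_dvd_of_le hle)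
    rw [← Subgroup.relIndex_mul_index (inf_le_right : F₁ ⊓ F₂ ≤ F₂)] at hd
    rcases hq.dvd_mul.1 hd with h | h
    · rw [Subgroup.inf_relIndex_right] at h
      have := h.trans (Subgroup.relIndex_dvd_index_of_normal F₁ F₂)
      rw [hF₁, Subgroup.index_comap_of_surjective _ (QuotientGroup.mk'_surjective V)] at this
      exact hno V hVn hV0 this
    · rw [hF₂, Subgroup.index_comap_of_surjective _ (QuotientGroup.mk'_surjective N)] at h
      exact hno N hN hN0 h
  have hO := pCore_index_of_fitting (hno V hVn hV0)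
  have hpq : q ≠ p := by
    rintro rfl
    set R := (Cfsg.pCore q (G ⧸ V)).comap π with hR
    haveI : R.Normal := inferInstance
    have hRp : IsPGroup q R := by
      refine (CfsgLib.Coprime.pCore_isPGroup q).comap_of_ker_isPGroup π ?_
      rw [hπ, QuotientGroup.ker_mk']
      exact IsPGroup.of_card hn
    have h1 := hqd.trans (Subgroup.index_dvd_of_le (CfsgLib.Coprime.le_fitting hRp.isNilpotent))
    rw [hR, Subgroup.index_comap_of_surjective _ (QuotientGroup.mk'_surjective V)] at h1
    exact hO h1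
  have hcore : Cfsg.pCore q (G ⧸ V) ≠ ⊥ := by
    intro h
    rw [h, Subgroup.index_bot] at hO
    rw [V.card_eq_card_quotient_mul_card_subgroup, hn] at hqG
    rcases hq.dvd_mul.1 hqG with h1 | h1
    · exact hO h1
    · exact hpq ((Nat.prime_dvd_prime_iff_eq hq hp).1 (hq.dvd_of_dvd_pow h1))
  -- a complement
  have hphi : frattini G = ⊥ := by
    by_contra hne
    have h1 := hno (frattini G) inferInstance hne
    rw [CfsgLib.Coprime.fitting_quotient_frattini,
      Subgroup.index_map_eq _ (QuotientGroup.mk'_surjective _) ?_] at h1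
    · exact h1 hqd
    · rw [QuotientGroup.ker_mk']
      exact CfsgLib.Coprime.le_fitting frattini_nilpotent
  obtain ⟨U, hU, hVU⟩ : ∃ U : Subgroup G, IsCoatom U ∧ ¬ V ≤ U := by
    by_contra! h
    refine hV0 (eq_bot_iff.2 (hphi ▸ ?_))
    exact le_iInf₂ fun U hU => h U hU
  have hsup : V ⊔ U = ⊤ := hU.2 _ (lt_of_le_of_ne le_sup_right fun h => hVU (by rw [h]; exact le_sup_left))
  have hnorm : ∀ S : Subgroup G, (∀ v ∈ V, ∀ x ∈ S, v * x * v⁻¹ ∈ S) → (∀ u ∈ U, ∀ x ∈ S, u * x * u⁻¹ ∈ S) →
      S.Normal := by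
    intro S h1 h2
    refine ⟨fun x hx g => ?_⟩
    have hg : g ∈ V ⊔ U := hsup ▸ Subgroup.mem_top g
    rw [← SetLike.mem_coe, Subgroup.normal_mul] at hg
    obtain ⟨v, hv, u, hu, rfl⟩ := Set.mem_mul.1 hg
    rw [show v * u * x * (v * u)⁻¹ = v * (u * x * u⁻¹) * v⁻¹ by group]
    exact h1 v hv _ (h2 u hu x hx)
  have hC : Subgroup.centralizer (V : Set G) = V := by
    haveI : (Subgroup.centralizer (V : Set G)).Normal := Subgroup.normal_centralizer
    refine le_antisymm (fun c hc => ?_) fun x hx => Subgroup.mem_centralizer_iff.2 fun y hy => hVab y hy x hx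
    have hCU : Subgroup.centralizer (V : Set G) ⊓ U = ⊥ := by
      by_contra hne
      refine hVU ((huniq _ (hnorm _ (fun v hv x hx => ?_) fun u hu x hx => ?_) hne).trans inf_le_right)
      · rwa [Subgroup.mem_centralizer_iff.1 hx.1 v hv, mul_inv_cancel_right]
      · exact Subgroup.mem_inf.2 ⟨‹(Subgroup.centralizer (V : Set G)).Normal›.conj_mem x (Subgroup.mem_inf.1 hx).1 u,
          mul_mem (mul_mem hu (Subgroup.mem_inf.1 hx).2) (inv_mem hu)⟩
    have hg : c ∈ V ⊔ U := hsup ▸ Subgroup.mem_top c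
    rw [← SetLike.mem_coe, Subgroup.normal_mul] at hg
    obtain ⟨v, hv, u, hu, rfl⟩ := Set.mem_mul.1 hg
    have h1 : u ∈ Subgroup.centralizer (V : Set G) ⊓ U := ⟨by
      have h2 : v ∈ Subgroup.centralizer (V : Set G) :=
        Subgroup.mem_centralizer_iff.2 fun y hy => hVab y hy v hv
      simpa using mul_mem (inv_mem h2) hc, hu⟩
    rw [hCU, Subgroup.mem_bot] at h1
    rwa [h1, mul_one]
  exact case_irred V hn1 hn hVexp hVab hVmin hC hq16 hcore

end CfsgLib.Coprime.ClassLog
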